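import Cfsg.Agent.FourTwo.BN
import Cfsg.Agent.KFacts.RgdChevCoord
import Cfsg.Agent.LieClassical.SLGen
import Cfsg.Agent.OddHalf.NI.ModelChev

/-!
# `F₄(2)`: the longest element inverts symmetric elements of blocks (helper692, S2443 and S4171)

* `w0_sq` : `w₀² = 1`;
* `xc_eq` : `xc hp (vec chevF4 4 r) 1 = x r`;
* `w0_xc` : `w₀ x_r(t) w₀⁻¹ = x_{-r}(t)`;
* `inv_sym` : `z φ(A) z⁻¹ = φ(A)⁻¹` for symmetric `A`, if `z` swaps opposite root elements of the block `φ`;
* `F4.real` : `z (φ(A) ψ(B)) z⁻¹ = (φ(A) ψ(B))⁻¹` for symmetric `A`, `B` and commuting blocks `φ`, `ψ`.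
-/

set_option autoImplicit false

namespace Cfsg.Agent.H692.Ore

open Cfsg Cfsg.Lie Cfsg.Lie.ChevalleyDatum
open Cfsg.Agent.ChevalleyStructure Cfsg.Agent.ChevalleyStructure.Elts Cfsg.Agent.ChevalleyStructure.CoxeterGeomTypes
open Cfsg.Agent.ChevalleyStructure.NPerm Cfsg.Agent.ChevalleyStructure.RootVec Cfsg.Agent.Nodes.RGDChev
open Cfsg.Agent.KFacts.RgdChevCoord
open Cfsg.Agent.FourTwo.Base Cfsg.Agent.FourTwo.BN

/-! ### symmetric elements of blocks -/

section

variable {ι : Type*} [DecidableEq ι] [Fintype ι] [Nontrivial ι] {K : Type*} [Field K] {Y : Type*} [Group Y]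

/-- inverse transposition on a block of type `A` -/
theorem conj_block {φ : Matrix.SpecialLinearGroup ι K →* Y} {z : Y}
    (hz : ∀ a b (hab : a ≠ b) (c : K), z * φ (Matrix.SpecialLinearGroup.transvection hab c) * z⁻¹ =
      φ (Matrix.SpecialLinearGroup.transvection hab.symm (-c))) (A : Matrix.SpecialLinearGroup ι K) :
    z * φ A * z⁻¹ = (φ A.transpose)⁻¹ := by
  refine Cfsg.Agent.LieClassical.SLGen.transvection_induction (fun A => z * φ A * z⁻¹ = (φ A.transpose)⁻¹) ?_ ?_ A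
  · intro a b hab c
    rw [hz, ← map_inv]
    congr 1
    apply Subtype.ext
    rw [Matrix.SpecialLinearGroup.transvection_coe]
    have h1 : (Matrix.SpecialLinearGroup.transvection hab c).transpose =
        Matrix.SpecialLinearGroup.transvection hab.symm c := by
      apply Subtype.ext
      rw [Matrix.SpecialLinearGroup.coe_transpose, Matrix.SpecialLinearGroup.transvection_coe,
        Matrix.SpecialLinearGroup.transvection_coe, Matrix.transpose_add, Matrix.transpose_one, Matrix.transpose_single]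
    rw [h1, Matrix.SpecialLinearGroup.transvection_inv, Matrix.SpecialLinearGroup.transvection_coe]
  · intro A B hA hB
    have h1 : (A * B).transpose = B.transpose * A.transpose := by
      apply Subtype.ext
      simp [Matrix.SpecialLinearGroup.coe_transpose, Matrix.SpecialLinearGroup.coe_mul]
    rw [h1, map_mul, map_mul, mul_inv_rev, ← hA, ← hB]
    group

/-- symmetric elements are inverted -/
theorem inv_sym {φ : Matrix.SpecialLinearGroup ι K →* Y} {z : Y}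
    (hz : ∀ a b (hab : a ≠ b) (c : K), z * φ (Matrix.SpecialLinearGroup.transvection hab c) * z⁻¹ =
      φ (Matrix.SpecialLinearGroup.transvection hab.symm (-c))) {A : Matrix.SpecialLinearGroup ι K}
    (hA : A.1.transpose = A.1) : z * φ A * z⁻¹ = (φ A)⁻¹ := by
  rw [conj_block hz]
  congr 2
  exact Subtype.ext hA

theorem inv_mul_comm {z a b : Y} (hab : a * b = b * a) (h1 : z * a * z⁻¹ = a⁻¹) (h2 : z * b * z⁻¹ = b⁻¹) :
    z * (a * b) * z⁻¹ = (a * b)⁻¹ := by
  calc z * (a * b) * z⁻¹ = (z * a * z⁻¹) * (z * b * z⁻¹) := by group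
    _ = a⁻¹ * b⁻¹ := by rw [h1, h2]
    _ = (a * b)⁻¹ := by rw [hab, mul_inv_rev]

end

/-! ### `F₄(2)` -/

/-- `w₀` is an involution -/
theorem w0_sq : w0 * w0 = 1 := by
  refine eq_one_of_fix (mul_mem w0_mem w0_mem) (l := List.range 48) (fun p hp => List.mem_range.1 hp) (by decide +kernel)
    fun p hp => ?_
  have hp' := List.mem_range.1 hp
  have h1 : w0 * w0 * x p * (w0 * w0)⁻¹ = w0 * (w0 * x p * w0⁻¹) * w0⁻¹ := by group
  rw [h1, w0_conj hp', w0_conj (by omega)]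
  congr 1
  omega

section

variable {M : CoxeterMatrix (Fin 4)} (hp : IsType chevF4 4 M)

theorem nroots_eq : chevF4.nroots = 48 := rfl

theorem neg_tab : ∀ r < 48, chevF4.neg r = 47 - r := by decide +kernel

theorem xc_eq {r : ℕ} (hr : r < 48) : xc hp (vec chevF4 4 r) (1 : ZMod 2) = x r := by
  apply Subtype.ext
  rw [coe_xc hp hr, coe_x]
  apply Units.ext
  rw [coe_xG]
  rfl

theorem w0_xc {r : ℕ} (hr : r < 48) (t : ZMod 2) :
    w0 * xc hp (vec chevF4 4 r) t * w0⁻¹ = xc hp (vec chevF4 4 (47 - r)) t := by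
  rcases zmod_cases t with rfl | rfl
  · have h0 : ∀ {s : ℕ}, s < 48 → xc hp (vec chevF4 4 s) (0 : ZMod 2) = 1 := fun {s} hs => by
      apply Subtype.ext
      rw [coe_xc hp hs, xG_zero]
      rfl
    rw [h0 hr, h0 (by omega), mul_one, mul_inv_cancel]
  · rw [xc_eq hp hr, xc_eq hp (by omega), w0_conj hr]

theorem neg_zmod (c : ZMod 2) : -c = c := by
  rcases zmod_cases c with rfl | rfl <;> decide

/-- `w₀` on a block -/
theorem w0_block {n : ℕ} {r : Fin n → Fin n → ℕ} {ε : ℤ} (hr : ∀ a b, a ≠ b → r a b < chevF4.nroots)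
    (hneg : ∀ a b, a ≠ b → r b a = chevF4.neg (r a b)) {φ : Matrix.SpecialLinearGroup (Fin n) (ZMod 2) →* LL}
    (hφ : ∀ a b (hab : a ≠ b) c, φ (Matrix.SpecialLinearGroup.transvection hab c) =
      xc hp (vec chevF4 4 (r a b)) ((ε : ZMod 2) * c)) (a b : Fin n) (hab : a ≠ b) (c : ZMod 2) :
    w0 * φ (Matrix.SpecialLinearGroup.transvection hab c) * w0⁻¹ =
      φ (Matrix.SpecialLinearGroup.transvection hab.symm (-c)) := by
  have h48 : r a b < 48 := hr a b hab
  rw [hφ, hφ, w0_xc hp h48, neg_zmod, hneg a b hab, neg_tab _ h48]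

/-- `w₀` inverts the symmetric elements of a block -/
theorem w0_inv {n : ℕ} [Nontrivial (Fin n)] {r : Fin n → Fin n → ℕ} {ε : ℤ}
    (hr : ∀ a b, a ≠ b → r a b < chevF4.nroots) (hneg : ∀ a b, a ≠ b → r b a = chevF4.neg (r a b))
    {φ : Matrix.SpecialLinearGroup (Fin n) (ZMod 2) →* LL}
    (hφ : ∀ a b (hab : a ≠ b) c, φ (Matrix.SpecialLinearGroup.transvection hab c) =
      xc hp (vec chevF4 4 (r a b)) ((ε : ZMod 2) * c))
    {A : Matrix.SpecialLinearGroup (Fin n) (ZMod 2)} (hA : A.1.transpose = A.1) : w0 * φ A * w0⁻¹ = (φ A)⁻¹ :=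
  inv_sym (z := w0) (w0_block hp hr hneg hφ) hA

/-- products of commuting inverted elements -/
theorem w0_inv_mul {a b : LL} (hab : a * b = b * a) (h1 : w0 * a * w0⁻¹ = a⁻¹) (h2 : w0 * b * w0⁻¹ = b⁻¹) :
    w0 * (a * b) * w0⁻¹ = (a * b)⁻¹ := inv_mul_comm (z := w0) hab h1 h2

/-- the rank one block `sl` -/
theorem w0_sl' {i : Fin 4} {ψ : Matrix.SpecialLinearGroup (Fin 2) (ZMod 2) →* LL}
    (h01 : ∀ c, ψ (Cfsg.Agent.FixBN.FieldRGD.uu c) = xc hp (vec chevF4 4 (chevF4.simple i)) c)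
    (h10 : ∀ c, ψ (Cfsg.Agent.FixBN.FieldRGD.vv c) = xc hp (vec chevF4 4 (chevF4.neg (chevF4.simple i))) c)
    {B : Matrix.SpecialLinearGroup (Fin 2) (ZMod 2)} (hB : B.1.transpose = B.1) : w0 * ψ B * w0⁻¹ = (ψ B)⁻¹ := by
  have hs : chevF4.simple i < 48 := by fin_cases i <;> decide
  have hn : chevF4.neg (chevF4.simple i) < 48 := by rw [neg_tab _ hs]; omega
  have hnn : 47 - chevF4.neg (chevF4.simple i) = chevF4.simple i := by rw [neg_tab _ hs]; omega
  refine inv_sym (z := w0) (fun a b hab c => ?_) hB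
  rw [neg_zmod]
  have hcases : (a = 0 ∧ b = 1) ∨ (a = 1 ∧ b = 0) := by
    have : ∀ a b : Fin 2, a ≠ b → (a = 0 ∧ b = 1) ∨ (a = 1 ∧ b = 0) := by decide
    exact this a b hab
  have t01 : ∀ (h : (0 : Fin 2) ≠ 1), Matrix.SpecialLinearGroup.transvection h c = Cfsg.Agent.FixBN.FieldRGD.uu c := by
    intro h
    apply Subtype.ext
    rw [Matrix.SpecialLinearGroup.transvection_coe]
    ext p q
    fin_cases p <;> fin_cases q <;> simp [Cfsg.Agent.FixBN.FieldRGD.uu, Matrix.single]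
  have t10 : ∀ (h : (1 : Fin 2) ≠ 0), Matrix.SpecialLinearGroup.transvection h c = Cfsg.Agent.FixBN.FieldRGD.vv c := by
    intro h
    apply Subtype.ext
    rw [Matrix.SpecialLinearGroup.transvection_coe]
    ext p q
    fin_cases p <;> fin_cases q <;> simp [Cfsg.Agent.FixBN.FieldRGD.vv, Matrix.single]
  rcases hcases with ⟨rfl, rfl⟩ | ⟨rfl, rfl⟩
  · rw [t01, t10, h01 c, h10 c, w0_xc hp hs c, neg_tab _ hs]
  · rw [t01, t10, h01 c, h10 c, w0_xc hp hn c, hnn]

/-- the rank one block of the node `i` -/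
theorem w0_sl (i : Fin 4) {B : Matrix.SpecialLinearGroup (Fin 2) (ZMod 2)} (hB : B.1.transpose = B.1) :
    w0 * Cfsg.Agent.OddHalf.NI.ModelChev.sl hp i B * w0⁻¹ = (Cfsg.Agent.OddHalf.NI.ModelChev.sl hp i B)⁻¹ := by
  have hs : chevF4.simple i < 48 := by fin_cases i <;> decide
  refine w0_sl' hp (i := i) (fun c => ?_) (fun c => ?_) hB
  · rw [Cfsg.Agent.OddHalf.NI.ModelChev.sl_uu, vec_simple hp i]
  · rw [Cfsg.Agent.OddHalf.NI.ModelChev.sl_vv, vec_neg hp hs, vec_simple hp i]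

/-- **The involution inverting `φ(A) s_i(B)`**, `A`, `B` symmetric. -/
theorem exists_real {n : ℕ} [Nontrivial (Fin n)] {r : Fin n → Fin n → ℕ} {ε : ℤ}
    (hr : ∀ a b, a ≠ b → r a b < chevF4.nroots) (hneg : ∀ a b, a ≠ b → r b a = chevF4.neg (r a b))
    {φ : Matrix.SpecialLinearGroup (Fin n) (ZMod 2) →* LL}
    (hφ : ∀ a b (hab : a ≠ b) c, φ (Matrix.SpecialLinearGroup.transvection hab c) =
      xc hp (vec chevF4 4 (r a b)) ((ε : ZMod 2) * c)) (i : Fin 4)
    {A : Matrix.SpecialLinearGroup (Fin n) (ZMod 2)} {B : Matrix.SpecialLinearGroup (Fin 2) (ZMod 2)}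
    (hA : A.1.transpose = A.1) (hB : B.1.transpose = B.1)
    (hcomm : φ A * Cfsg.Agent.OddHalf.NI.ModelChev.sl hp i B = Cfsg.Agent.OddHalf.NI.ModelChev.sl hp i B * φ A) :
    ∃ z : LL, z * z = 1 ∧ z * (φ A * Cfsg.Agent.OddHalf.NI.ModelChev.sl hp i B) * z⁻¹ =
      (φ A * Cfsg.Agent.OddHalf.NI.ModelChev.sl hp i B)⁻¹ :=
  ⟨w0, w0_sq, w0_inv_mul hcomm (w0_inv hp hr hneg hφ hA) (w0_sl hp i hB)⟩

end

end Cfsg.Agent.H692.Ore
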