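import Cfsg.Agent.H335.Sr.Inst
import Cfsg.Agent.H692.Ore.FFour

/-!
# `E₆(2)`: an involution inverting `φ(A) s₁(B) s₆(B)`, `A`, `B` symmetric (helper692, S2443 and S4171)
-/

set_option autoImplicit false

namespace Cfsg.Agent.H692.Ore.ESix

open Cfsg Cfsg.Lie Cfsg.Lie.ChevalleyDatum
open Cfsg.Agent.ChevalleyStructure Cfsg.Agent.ChevalleyStructure.Elts Cfsg.Agent.ChevalleyStructure.CoxeterGeom
open Cfsg.Agent.ChevalleyStructure.CoxeterGeomTypes
open Cfsg.Agent.ChevalleyStructure.NPerm Cfsg.Agent.ChevalleyStructure.RootVec Cfsg.Agent.Nodes.RGDChev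
open Cfsg.Agent.KFacts.RgdChevCoord Cfsg.Agent.Nodes.Reps Cfsg.Agent.Nodes.Bruhat Cfsg.Agent.Tits.Roots
open Cfsg.Agent.H335.Sr Cfsg.Agent.OddHalf.NI.ModelChev

/-- `z s_i(B) z⁻¹ = s_{γ i}(B⁻ᵀ)` -/
theorem zd_sl {D : ChevalleyDatum} {l : ℕ} {M : CoxeterMatrix (Fin l)} {hp : IsType D l M} {W : Type*} [Group W]
    {cs : CoxeterSystem M W} {w : W} {γ : Fin l → Fin l} {ε : Fin l → ℤ} {z : ↥(D.group (ZMod 2))}
    (Z : ZD hp cs w γ ε z) (i : Fin l) {B : Matrix.SpecialLinearGroup (Fin 2) (ZMod 2)} (hB : B.1.transpose = B.1) :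
    z * sl hp i B * z⁻¹ = (sl hp (γ i) B)⁻¹ := by
  have hε : ∀ c : ZMod 2, ((ε i : ℤ) : ZMod 2) * c = c := by
    intro c
    rcases Z.sgn i with h | h <;> rw [h]
    · simp
    · rw [Int.cast_neg, Int.cast_one, neg_mul, one_mul, neg_zmod]
  have key : ∀ A : Matrix.SpecialLinearGroup (Fin 2) (ZMod 2),
      z * sl hp i A * z⁻¹ = (sl hp (γ i) A.transpose)⁻¹ := by
    intro A
    refine Cfsg.Agent.LieClassical.SLGen.transvection_induction
      (fun A => z * sl hp i A * z⁻¹ = (sl hp (γ i) A.transpose)⁻¹) ?_ ?_ A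
    · intro a b hab c
      have h1 : (Matrix.SpecialLinearGroup.transvection hab c).transpose =
          Matrix.SpecialLinearGroup.transvection hab.symm c := by
        apply Subtype.ext
        rw [Matrix.SpecialLinearGroup.coe_transpose, Matrix.SpecialLinearGroup.transvection_coe,
          Matrix.SpecialLinearGroup.transvection_coe, Matrix.transpose_add, Matrix.transpose_one, Matrix.transpose_single]
      rw [h1, ← map_inv]
      have h2 : (Matrix.SpecialLinearGroup.transvection hab.symm c)⁻¹ =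
          Matrix.SpecialLinearGroup.transvection hab.symm c := by
        rw [Matrix.SpecialLinearGroup.transvection_inv, neg_zmod]
      rw [h2]
      have hcases : (a = 0 ∧ b = 1) ∨ (a = 1 ∧ b = 0) := by
        have : ∀ a b : Fin 2, a ≠ b → (a = 0 ∧ b = 1) ∨ (a = 1 ∧ b = 0) := by decide
        exact this a b hab
      have t01 : ∀ (h : (0 : Fin 2) ≠ 1), Matrix.SpecialLinearGroup.transvection h c =
          Cfsg.Agent.FixBN.FieldRGD.uu c := by
        intro h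
        apply Subtype.ext
        rw [Matrix.SpecialLinearGroup.transvection_coe]
        ext p q
        fin_cases p <;> fin_cases q <;> simp [Cfsg.Agent.FixBN.FieldRGD.uu, Matrix.single]
      have t10 : ∀ (h : (1 : Fin 2) ≠ 0), Matrix.SpecialLinearGroup.transvection h c =
          Cfsg.Agent.FixBN.FieldRGD.vv c := by
        intro h
        apply Subtype.ext
        rw [Matrix.SpecialLinearGroup.transvection_coe]
        ext p q
        fin_cases p <;> fin_cases q <;> simp [Cfsg.Agent.FixBN.FieldRGD.vv, Matrix.single]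
      rcases hcases with ⟨rfl, rfl⟩ | ⟨rfl, rfl⟩
      · rw [t01, t10, sl_uu, sl_vv, Z.pos, hε]
      · rw [t01, t10, sl_uu, sl_vv, Z.neg, hε]
    · intro A B hA hB
      have h1 : (A * B).transpose = B.transpose * A.transpose := by
        apply Subtype.ext
        simp [Matrix.SpecialLinearGroup.coe_transpose, Matrix.SpecialLinearGroup.coe_mul]
      rw [h1, map_mul, map_mul, mul_inv_rev, ← hA, ← hB]
      group
  rw [key]
  congr 2
  exact Subtype.ext hB

/-- **The reversing involution of `φ(A) s₁(B) s₆(B)`.** -/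
theorem exists_real (hp : IsType chevE6 6 CoxeterMatrix.E₆) {n : ℕ} [Nontrivial (Fin n)] {r : Fin n → Fin n → ℕ} {ε : ℤ}
    (hr : ∀ a b, a ≠ b → r a b < chevE6.nroots) (hneg : ∀ a b, a ≠ b → r b a = chevE6.neg (r a b))
    (hfix : ∀ a b, a ≠ b → ∀ i, vec chevE6 6 (r a b) (g6 i) = vec chevE6 6 (r a b) i)
    {φ : Matrix.SpecialLinearGroup (Fin n) (ZMod 2) →* ↥(chevE6.group (ZMod 2))}
    (hφ : ∀ a b (hab : a ≠ b) c, φ (Matrix.SpecialLinearGroup.transvection hab c) =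
      xc hp (vec chevE6 6 (r a b)) ((ε : ZMod 2) * c))
    {A : Matrix.SpecialLinearGroup (Fin n) (ZMod 2)} {B : Matrix.SpecialLinearGroup (Fin 2) (ZMod 2)}
    (hA : A.1.transpose = A.1) (hB : B.1.transpose = B.1)
    (hcomm : φ A * (sl hp 0 B * sl hp 5 B) = (sl hp 0 B * sl hp 5 B) * φ A) :
    ∃ z : ↥(chevE6.group (ZMod 2)), z * z = 1 ∧ z * (φ A * (sl hp 0 B * sl hp 5 B)) * z⁻¹ =
      (φ A * (sl hp 0 B * sl hp 5 B))⁻¹ := by
  obtain ⟨w, z, -, hw, Z⟩ := zE6 (ZMod 2) hp CoxeterMatrix.E₆.toCoxeterSystem (fun _ => 1) (fun _ => .inl rfl)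
    (fun _ => rfl)
  refine ⟨z, Z.sq, inv_mul_comm (z := z) hcomm (inv_sym (z := z) (fun a b hab c => ?_) hA) ?_⟩
  · rw [hφ, hφ]
    obtain ⟨e, he, h1, -⟩ := Z.root (vec chevE6 6 (r a b)) (isRoot_vec hp _ (hr a b hab))
    rw [h1, hw, neg_zmod, hneg a b hab, vec_neg hp (hr a b hab)]
    have h2 : (fun i => vec chevE6 6 (r a b) (g6 i)) = vec chevE6 6 (r a b) := funext (hfix a b hab)
    rw [h2]
    congr 1
    rcases he with rfl | rfl
    · simp
    · rw [Int.cast_neg, Int.cast_one, neg_mul, one_mul, neg_zmod]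
  · calc z * (sl hp 0 B * sl hp 5 B) * z⁻¹ = (z * sl hp 0 B * z⁻¹) * (z * sl hp 5 B * z⁻¹) := by group
      _ = (sl hp 5 B)⁻¹ * (sl hp 0 B)⁻¹ := by
        rw [zd_sl Z 0 hB, zd_sl Z 5 hB]
        rfl
      _ = (sl hp 0 B * sl hp 5 B)⁻¹ := by rw [mul_inv_rev]

/-- the table of `H162.GaussExcMain.r6` -/
def r6 : Fin 3 → Fin 3 → ℕ := ![![0, 39, 47], ![32, 0, 46], ![24, 25, 0]]

theorem r6_lt : ∀ a b, a ≠ b → r6 a b < chevE6.nroots := by decide +kernel

theorem r6_neg : ∀ a b, a ≠ b → r6 b a = chevE6.neg (r6 a b) := by decide +kernel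

theorem r6_fix : ∀ a b, a ≠ b → ∀ i, vec chevE6 6 (r6 a b) (g6 i) = vec chevE6 6 (r6 a b) i := by decide +kernel

/-- **The reversing involution for the block on the nodes `3, 1`.** -/
theorem rev (hp : IsType chevE6 6 CoxeterMatrix.E₆)
    {φ : Matrix.SpecialLinearGroup (Fin 3) (ZMod 2) →* ↥(chevE6.group (ZMod 2))}
    (hφ : ∀ a b (hab : a ≠ b) c, φ (Matrix.SpecialLinearGroup.transvection hab c) =
      xc hp (vec chevE6 6 ((![![0, 39, 47], ![32, 0, 46], ![24, 25, 0]] : Fin 3 → Fin 3 → ℕ) a b))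
        (((1 : ℤ) : ZMod 2) * c))
    {A : Matrix.SpecialLinearGroup (Fin 3) (ZMod 2)} {B : Matrix.SpecialLinearGroup (Fin 2) (ZMod 2)}
    (hA : A.1.transpose = A.1) (hB : B.1.transpose = B.1)
    (hcomm : φ A * (sl hp 0 B * sl hp 5 B) = (sl hp 0 B * sl hp 5 B) * φ A) :
    ∃ z : ↥(chevE6.group (ZMod 2)), z * z = 1 ∧ z * (φ A * (sl hp 0 B * sl hp 5 B)) * z⁻¹ =
      (φ A * (sl hp 0 B * sl hp 5 B))⁻¹ :=
  exists_real hp (r := r6) (ε := 1) r6_lt r6_neg r6_fix hφ hA hB hcomm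

end Cfsg.Agent.H692.Ore.ESix
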