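import Cfsg.Agent.H692.Ore.Fi23B

/-!
# `Fi₂₃`, `z = 2C`: the elements of order 3 commuting with a product of three commuting transpositions (helper692, S2443)

`z = z₀ a c`. If `s` of order `3` fixes the three transpositions, then it commutes with a transposition that commutes with
`z₀, a` but not with `c` (there are `512 = 2` modulo `3`), and `|C(z) ∩ C(s)| ≤ |C(z₀) ∩ C(s)|`. If `s` permutes the three
transpositions cyclically, then `C(s)` has index at least `5` in the pointwise stabiliser of the three transpositions.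
-/

set_option autoImplicit false
set_option maxRecDepth 100000
set_option linter.constructorNameAsVariable false

namespace Cfsg.Agent.H692.Ore.Fi23C

open Subgroup Cfsg
open Cfsg.Agent.Lib.PermNet hiding tau
open Cfsg.Agent.Lib.PermNetFix Cfsg.Agent.Lib.PermNetOrbit
open Cfsg.Agent.Fischer.Fi23Z Cfsg.Agent.Fischer.Fi23Hom Cfsg.Agent.Fischer.Fi23Orb Cfsg.Agent.Fischer.Fi23Rel
open Cfsg.Agent.Fischer Cfsg.Agent.Fischer.Fi23Class Cfsg.Agent.Fischer.Fi23Simple Cfsg.Agent.Fischer.Fi23OrbData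
open Cfsg.Agent.KFacts.FiTTh.Cent
open Cfsg.Agent.KFacts.FiTTh.BasFi (e e_a e_c e_z e_sq e_comm fix_of_comm comm_of_fix ptgen full octB_mem pre)
open Cfsg.Agent.KFacts.FiTTh.BasChk (lab octB v2 dfix1 dm1 dlt1 dfix2 dm2 dlt2)
open Cfsg.Agent.KFacts.FiTTh.BasCode (exists_map_emb)
open Cfsg.Agent.KFacts.FiTTh.BasDef (pr mem_M23)
open Cfsg.Agent.LThreeFi23 (Lt el elw elw_cons elw_nil act_lt)
open Cfsg.Agent.H870.Fi23Fix (Fx Fx_word fxm Fx_isConj)
open Cfsg.Agent.H692.Ore.Fi23B
open Cfsg.Spor Cfsg.Spor.Fi23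

theorem Fx_W3 : Fx W3 = 183 := by
  have h : elw [.z, .a, .c] = W3 := by
    rw [elw_cons, elw_cons, elw_cons, elw_nil, mul_one, W3, mul_assoc]
    rfl
  rw [← h, Fx_word]
  exact Nat.eq_of_beq_eq_true (by decide +kernel)

/-- an element of order three has a fixed point in a stable set of size not divisible by three -/
theorem exists_fix {S : Set ℕ} (hfin : S.Finite) (hcard : ¬ 3 ∣ S.ncard) {s : Fi23} (hs : orderOf s = 3)
    (hS : ∀ p ∈ S, rho s p ∈ S) : ∃ p ∈ S, rho s p = p := by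
  classical
  have hF : Fintype S := hfin.fintype
  have p3 : Fact (Nat.Prime 3) := ⟨Nat.prime_three⟩
  let f : S → S := fun p => ⟨rho s p, hS p p.2⟩
  have hf : Function.Injective f := fun p q h => Subtype.ext ((rho s).injective (congrArg Subtype.val h))
  let σ : Equiv.Perm S := Equiv.ofBijective f (Finite.injective_iff_bijective.1 hf)
  have hσ : σ ^ 3 ^ 1 = 1 := by
    ext p
    show rho s (rho s (rho s p)) = p
    rw [← Equiv.Perm.mul_apply, ← Equiv.Perm.mul_apply, ← map_mul, ← map_mul]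
    have h1 : s * s * s = 1 := by
      have := pow_orderOf_eq_one s
      rwa [hs, pow_succ, pow_two] at this
    rw [h1, map_one]
    rfl
  obtain ⟨⟨p, hp⟩, h⟩ := Equiv.Perm.exists_fixed_point_of_prime (p := 3) (n := 1) (by
    rw [← Nat.card_eq_fintype_card, Nat.card_coe_set_eq]; exact hcard) hσ
  exact ⟨p, hp, congrArg Subtype.val h⟩

/-- the points of the transpositions commuting with `z0` and `a` but not with `c` -/
def NN3 : Set ℕ := {p | p < 31671 ∧ rho W2 p = p ∧ rho (gen .c) p ≠ p}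

theorem NN3_fin : NN3.Finite := (Set.finite_lt_nat 31671).subset fun _ hp => hp.1

theorem ncard_NN3 : NN3.ncard = 512 := by
  have e3 : ∀ p, rho W3 p = rho W2 (rho (gen .c) p) := fun p => by
    rw [← Equiv.Perm.mul_apply, ← map_mul]; rfl
  have h1 : {p : ℕ | p < 31671 ∧ rho W3 p = p} ⊆ {p : ℕ | p < 31671 ∧ rho W2 p = p} := by
    rintro p ⟨hp, h⟩
    refine ⟨hp, ?_⟩
    have h2 := hW3 p hp h (gen .c) (Or.inr (Or.inr rfl))
    rwa [e3, h2] at h
  have h2 : NN3 = {p : ℕ | p < 31671 ∧ rho W2 p = p} \ {p : ℕ | p < 31671 ∧ rho W3 p = p} := by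
    ext p
    constructor
    · rintro ⟨hp, h, h'⟩
      exact ⟨⟨hp, h⟩, fun h3 => h' (hW3 p hp h3.2 _ (Or.inr (Or.inr rfl)))⟩
    · rintro ⟨⟨hp, h⟩, h'⟩
      refine ⟨hp, h, fun h3 => h' ⟨hp, ?_⟩⟩
      rw [e3, h3, h]
  have hfin : {p : ℕ | p < 31671 ∧ rho W2 p = p}.Finite := (Set.finite_lt_nat 31671).subset fun p hp => hp.1
  rw [h2, Set.ncard_sdiff h1 (hfin.subset h1)]
  have h3 : {p : ℕ | p < 31671 ∧ rho W2 p = p}.ncard = 695 := Fx_W2
  have h4 : {p : ℕ | p < 31671 ∧ rho W3 p = p}.ncard = 183 := Fx_W3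
  rw [h3, h4]

/-- commuting elements and fixed points -/
theorem rho_of_comm {s w : Fi23} (h : s * w = w * s) (p : ℕ) : rho w (rho s p) = rho s (rho w p) := by
  rw [← Equiv.Perm.mul_apply, ← Equiv.Perm.mul_apply, ← map_mul, ← map_mul, h]

theorem exists_e3 {s : Fi23} (hs : orderOf s = 3) (hz : s * W2 = W2 * s) (hc : s * gen .c = gen .c * s) :
    ∃ g : Fi23, (g * z0 * g⁻¹) * s = s * (g * z0 * g⁻¹) ∧ (g * z0 * g⁻¹) * z0 = z0 * (g * z0 * g⁻¹) ∧
      rho (g * z0 * g⁻¹) 11589 = 11589 ∧ rho (g * z0 * g⁻¹) 8003 ≠ 8003 := by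
  obtain ⟨p, ⟨hp1, hp2, hp3⟩, hps⟩ := exists_fix NN3_fin (by rw [ncard_NN3]; norm_num) hs (fun p ⟨h1, h2, h3⟩ =>
    ⟨act_lt s h1, by rw [rho_of_comm hz, h2], fun h4 => h3 ((rho s).injective (by rw [← rho_of_comm hc, h4]))⟩)
  have hz0 := hW2 p hp1 hp2 z0 (Or.inl rfl)
  have ha0 := hW2 p hp1 hp2 (gen .a) (Or.inr rfl)
  obtain ⟨g, hg⟩ : ∃ g : Fi23, rho g 0 = p := Cfsg.Agent.LThreeFi23.exists_rep hp1
  rw [← hg] at hps hp3 hz0 ha0
  rw [fixes_iff] at hps hz0 ha0
  refine ⟨g, hps.symm, hz0.symm, fixA_iff.2 ha0.symm, fun h4 => hp3 ?_⟩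
  obtain ⟨h, hh, hh'⟩ := ptgen .c
  have hh'' : rho h 0 = 8003 := hh'
  rw [← hh'', fixes_iff, hh] at h4
  rw [fixes_iff]
  exact h4.symm

/-- the three points -/
def P3 : Set ℕ := (({0, 8003, 11589} : Finset ℕ) : Set ℕ)

theorem mem_P3 {p : ℕ} : p ∈ P3 ↔ p = 0 ∨ p = 8003 ∨ p = 11589 := by
  simp [P3]

theorem perm_P3 {y : Fi23} (hy : y * W3 = W3 * y) : rho y 0 ∈ P3 ∧ rho y 8003 ∈ P3 ∧ rho y 11589 ∈ P3 := by
  have f := fun (h : Fi23) (hd : h * z0 * h⁻¹ ∈ Ds3) =>
    stable (P := P3) hW3 hP3 hX3 hWX3 hWD3 hy hd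
  refine ⟨?_, ?_, ?_⟩
  · have := f 1 (by rw [one_mul, inv_one, mul_one]; exact Or.inl rfl)
    simpa using this
  · obtain ⟨h, hh, hp⟩ := ptgen .c
    have hp' : rho h 0 = 8003 := hp
    have := f h (by rw [hh]; exact Or.inr (Or.inr rfl))
    rwa [hp'] at this
  · obtain ⟨h, hh, hp⟩ := exists_a
    have := f h (by rw [hh]; exact Or.inr (Or.inl rfl))
    rwa [hp] at this

theorem fixC_iff {y : Fi23} : rho y 8003 = 8003 ↔ y * gen .c = gen .c * y := by
  obtain ⟨h, hh, hp⟩ := ptgen .c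
  have hp' : rho h 0 = 8003 := hp
  rw [← hp', fixes_iff, hh]

instance : Finite Fi23 := Nat.finite_of_card_ne_zero (by rw [card_Fi23]; norm_num)

theorem orb_finite (S : Subgroup Fi23) (p : ℕ) : {q : ℕ | ∃ x ∈ S, rho x p = q}.Finite := by
  have : (Set.range fun x : S => rho (x : Fi23) p).Finite := Set.finite_range _
  refine this.subset ?_
  rintro q ⟨x, hx, rfl⟩
  exact ⟨⟨x, hx⟩, rfl⟩

/-- the braid relation -/
theorem braid_c {g : Fi23} (h : rho (g * z0 * g⁻¹) 8003 ≠ 8003) :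
    (g * z0 * g⁻¹) * gen .c * (g * z0 * g⁻¹) = gen .c * (g * z0 * g⁻¹) * gen .c := by
  obtain ⟨k, hk, hp⟩ := ptgen .c
  have hp' : rho k 0 = 8003 := hp
  have h1 : Cfsg.Agent.LThreeFi23.T (rho g 0) = g * z0 * g⁻¹ := Cfsg.Agent.LThreeFi23.T_eq rfl
  have h2 : Cfsg.Agent.LThreeFi23.T 8003 = gen .c := by
    rw [Cfsg.Agent.LThreeFi23.T_eq hp', hk]
  have h3 := Cfsg.Agent.LThreeFi23.braid (p := rho g 0) (q := 8003) (act.2.2.1 g) (by norm_num) (by
    unfold Cfsg.Agent.LThreeFi23.Com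
    rw [h1]; exact h)
  rwa [h1, h2] at h3

/-- the case where `s` fixes the three transpositions -/
theorem case_fix {s : Fi23} (hs : orderOf s = 3) (f0 : rho s 0 = 0) (fa : rho s 11589 = 11589)
    (fc : rho s 8003 = 8003) :
    Nat.card (centralizer ({W3, s} : Set Fi23)) ≤ Nat.card (centralizer ({z0, s} : Set Fi23)) := by
  have c0 := (rho0_iff s).1 f0
  have ca := fixA_iff.1 fa
  have cc := fixC_iff.1 fc
  have cW2 : s * W2 = W2 * s := by
    unfold W2
    rw [← mul_assoc, c0, mul_assoc, ca, mul_assoc]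
  have e0 := orb_card (centralizer ({W3, s} : Set Fi23)) 0
  have e1 := orb_card (centralizer ({W3, s} : Set Fi23) ⊓ St 0) 11589
  have e2 := orb_card (centralizer ({z0, s} : Set Fi23)) 11589
  have e3 := orb_card (centralizer ({z0, s} : Set Fi23) ⊓ St 11589) 8003
  have n0 : {q : ℕ | ∃ x ∈ centralizer ({W3, s} : Set Fi23), rho x 0 = q}.ncard ≤ 3 := by
    have h1 : {q : ℕ | ∃ x ∈ centralizer ({W3, s} : Set Fi23), rho x 0 = q} ⊆ P3 := by
      rintro q ⟨x, hx, rfl⟩
      exact (perm_P3 (mem_cen.1 hx).1).1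
    refine (Set.ncard_le_ncard h1 (Finset.finite_toSet _)).trans ?_
    rw [P3, Set.ncard_coe_finset]
    decide
  have n1 : {q : ℕ | ∃ x ∈ centralizer ({W3, s} : Set Fi23) ⊓ St 0, rho x 11589 = q}.ncard ≤ 2 := by
    have h1 : {q : ℕ | ∃ x ∈ centralizer ({W3, s} : Set Fi23) ⊓ St 0, rho x 11589 = q} ⊆ ({8003, 11589} : Set ℕ) := by
      rintro q ⟨x, ⟨hx, hx'⟩, rfl⟩
      have hx0 : rho x 0 = 0 := hx'
      rcases mem_P3.1 (perm_P3 (mem_cen.1 hx).1).2.2 with h | h | h
      · exact absurd ((rho x).injective (hx0.trans h.symm)) (by decide)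
      · exact Or.inl h
      · exact Or.inr h
    refine (Set.ncard_le_ncard h1 (by simp)).trans ?_
    rw [Set.ncard_pair (by decide)]
  have n2 : 2 ≤ {q : ℕ | ∃ x ∈ centralizer ({z0, s} : Set Fi23), rho x 11589 = q}.ncard := by
    obtain ⟨g, hg1, hg2, hg3⟩ := exists_e hs c0 ca
    have h1 : ({11589, rho (g * z0 * g⁻¹) 11589} : Set ℕ) ⊆
        {q : ℕ | ∃ x ∈ centralizer ({z0, s} : Set Fi23), rho x 11589 = q} := by
      rintro q (rfl | rfl)
      · exact ⟨1, one_mem _, by rw [map_one]; rfl⟩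
      · exact ⟨g * z0 * g⁻¹, mem_cen.2 ⟨hg2, hg1⟩, rfl⟩
    rw [← Set.ncard_pair (Ne.symm hg3)]
    exact Set.ncard_le_ncard h1 (orb_finite _ _)
  have n3 : 3 ≤ {q : ℕ | ∃ x ∈ centralizer ({z0, s} : Set Fi23) ⊓ St 11589, rho x 8003 = q}.ncard := by
    obtain ⟨g, hg1, hg2, hg3, hg4⟩ := exists_e3 hs cW2 cc
    have hb := braid_c hg4
    set t := g * z0 * g⁻¹ with ht
    have hcc : gen .c * gen .c = (1 : Fi23) := Fi23Final.gen_sq .c
    have htt : t * t = 1 := by
      rw [ht]
      calc g * z0 * g⁻¹ * (g * z0 * g⁻¹) = g * (z0 * z0) * g⁻¹ := by group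
        _ = 1 := by rw [Cfsg.Agent.KFacts.FiTTh.Cent.zz]; group
    have hcf : rho (gen .c) 8003 = 8003 := fixC_iff.2 rfl
    have mt : t ∈ centralizer ({z0, s} : Set Fi23) ⊓ St 11589 := ⟨mem_cen.2 ⟨hg2, hg1⟩, hg3⟩
    have mc : gen .c ∈ centralizer ({z0, s} : Set Fi23) ⊓ St 11589 :=
      ⟨mem_cen.2 ⟨zc, cc.symm⟩, fixA_iff.2 ac.symm⟩
    -- the three points
    have d1 : rho t 8003 ≠ 8003 := hg4
    have d2 : rho (gen .c * t) 8003 ≠ 8003 := by
      rw [map_mul, Equiv.Perm.mul_apply]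
      intro h
      apply d1
      apply (rho (gen .c)).injective
      rw [h, hcf]
    have d3 : rho (gen .c * t) 8003 ≠ rho t 8003 := by
      intro h
      apply d1
      rw [fixC_iff]
      have h1 : rho (t * (gen .c * t)) 8003 = 8003 := by
        rw [map_mul, Equiv.Perm.mul_apply, h, ← Equiv.Perm.mul_apply, ← map_mul, htt, map_one]
        rfl
      have h2 := fixC_iff.1 h1
      have h3 : t * (gen .c * t) = gen .c * t * gen .c := by rw [← mul_assoc, hb]
      rw [h3] at h2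
      calc t * gen .c = (gen .c * gen .c) * t * gen .c := by rw [hcc, one_mul]
        _ = gen .c * (gen .c * t * gen .c) := by simp only [mul_assoc]
        _ = gen .c * t * gen .c * gen .c := h2.symm
        _ = gen .c * t := by rw [mul_assoc _ (gen .c) (gen .c), hcc, mul_one]
    have h1 : (({8003, rho t 8003, rho (gen .c * t) 8003} : Finset ℕ) : Set ℕ) ⊆
        {q : ℕ | ∃ x ∈ centralizer ({z0, s} : Set Fi23) ⊓ St 11589, rho x 8003 = q} := by
      intro q hq
      simp only [Finset.coe_insert, Finset.coe_singleton, Set.mem_insert_iff, Set.mem_singleton_iff] at hq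
      rcases hq with rfl | rfl | rfl
      · exact ⟨1, one_mem _, by rw [map_one]; rfl⟩
      · exact ⟨t, mt, rfl⟩
      · exact ⟨gen .c * t, mul_mem mc mt, rfl⟩
    have h2 : ({8003, rho t 8003, rho (gen .c * t) 8003} : Finset ℕ).card = 3 := by
      rw [Finset.card_eq_three]
      exact ⟨_, _, _, d1.symm, d2.symm, d3.symm, rfl⟩
    rw [← h2, ← Set.ncard_coe_finset]
    exact Set.ncard_le_ncard h1 (orb_finite _ _)
  have hle : centralizer ({W3, s} : Set Fi23) ⊓ St 0 ⊓ St 11589 ≤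
      centralizer ({z0, s} : Set Fi23) ⊓ St 11589 ⊓ St 8003 := by
    rintro x ⟨⟨hx1, hx2⟩, hx3⟩
    have hx2' : rho x 0 = 0 := hx2
    have hx3' : rho x 11589 = 11589 := hx3
    refine ⟨⟨mem_cen.2 ⟨(rho0_iff x).1 hx2', (mem_cen.1 hx1).2⟩, hx3⟩, ?_⟩
    rcases mem_P3.1 (perm_P3 (mem_cen.1 hx1).1).2.1 with h | h | h
    · exact absurd ((rho x).injective (hx2'.trans h.symm)) (by decide)
    · exact h
    · exact absurd ((rho x).injective (hx3'.trans h.symm)) (by decide)
  have hcard := Nat.card_le_card_of_injective _ (Subgroup.inclusion_injective hle)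
  calc Nat.card (centralizer ({W3, s} : Set Fi23))
      ≤ Nat.card (centralizer ({W3, s} : Set Fi23) ⊓ St 0 : Subgroup Fi23) * 3 := by
        rw [← e0]; exact Nat.mul_le_mul_left _ n0
    _ ≤ Nat.card (centralizer ({W3, s} : Set Fi23) ⊓ St 0 ⊓ St 11589 : Subgroup Fi23) * 2 * 3 := by
        rw [← e1]; exact Nat.mul_le_mul_right _ (Nat.mul_le_mul_left _ n1)
    _ ≤ Nat.card (centralizer ({z0, s} : Set Fi23) ⊓ St 11589 ⊓ St 8003 : Subgroup Fi23) * 2 * 3 :=
        Nat.mul_le_mul_right _ (Nat.mul_le_mul_right _ hcard)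
    _ = Nat.card (centralizer ({z0, s} : Set Fi23) ⊓ St 11589 ⊓ St 8003 : Subgroup Fi23) * 3 * 2 := by ring
    _ ≤ Nat.card (centralizer ({z0, s} : Set Fi23) ⊓ St 11589 : Subgroup Fi23) * 2 := by
        rw [← e3]; exact Nat.mul_le_mul_right _ (Nat.mul_le_mul_left _ n3)
    _ ≤ Nat.card (centralizer ({z0, s} : Set Fi23)) := by
        rw [← e2]; exact Nat.mul_le_mul_left _ n2

/-! ### The cyclic case -/

/-- the products of three of the 23 commuting transpositions are conjugate to `z₀ a c` -/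
theorem isConj_W3 {i j k : ZMod 23} (hij : i ≠ j) (hik : i ≠ k) (hjk : j ≠ k) :
    IsConj W3 (e (some i) * e (some j) * e (some k)) := by
  obtain ⟨m, hm⟩ := exists_map_emb (n := 4) (by norm_num)
    ⟨![none, some 13, some 0, some 1], by decide⟩
    ⟨![none, some i, some j, some k], by
      intro x y
      fin_cases x <;> fin_cases y <;> simp [hij, hij.symm, hik, hik.symm, hjk, hjk.symm]⟩
  have m0 : (m : Equiv.Perm GolayPt) none = none := hm 0
  have m1 : (m : Equiv.Perm GolayPt) (some 13) = some i := hm 1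
  have m2 : (m : Equiv.Perm GolayPt) (some 0) = some j := hm 2
  have m3 : (m : Equiv.Perm GolayPt) (some 1) = some k := hm 3
  obtain ⟨n, hn⟩ := full m (mem_M23.2 ⟨m.2, m0⟩)
  refine isConj_iff.2 ⟨n, ?_⟩
  rw [← m1, ← m2, ← m3, ← hn, ← hn, ← hn, e_z, e_a, e_c, W3]
  group

/-- a product of three of the transpositions is not a transposition -/
theorem not_conj {i j k : ZMod 23} (hij : i ≠ j) (hik : i ≠ k) (hjk : j ≠ k) (n : Fi23) (l : ZMod 23) :
    n * e (some l) * n⁻¹ ≠ e (some i) * e (some j) * e (some k) := by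
  intro h
  obtain ⟨g, -, hg⟩ := Cfsg.Agent.KFacts.FiTTh.BasFi.exists_e l
  have h1 : IsConj z0 (e (some i) * e (some j) * e (some k)) :=
    isConj_iff.2 ⟨n * g, by rw [← h, ← hg]; group⟩
  have h2 := Fx_isConj h1
  have h3 := Fx_isConj (isConj_W3 hij hik hjk)
  rw [Fx_W3] at h3
  rw [Fx_z0, ← h3] at h2
  omega

/-- an element not commuting with `z0` does not commute with a further transposition -/
theorem exists_d {s : Fi23} (hz : ¬ s * z0 = z0 * s) :
    ∃ p : ZMod 23, p ≠ 13 ∧ p ≠ 0 ∧ p ≠ 1 ∧ ¬ (s * e (some p) = e (some p) * s) := by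
  by_contra hcon
  push Not at hcon
  apply hz
  classical
  set O : Finset GolayPt := octB.toFinset.erase (some 13) with hO
  have h13 : (some 13 : GolayPt) ∈ octB.toFinset := by decide
  have h1 : pr e octB.toFinset = e (some 13) * pr e O := by
    conv_lhs => rw [← Finset.insert_erase h13]
    exact pre.pr_insert (Finset.notMem_erase _ _)
  rw [pre.pr_oct_none octB_mem (by decide)] at h1
  have h2 : ∀ p ∈ O, s * e p = e p * s := by
    intro p hp
    have h3 : ∀ p ∈ O, p = none ∨ ∃ i : ZMod 23, p = some i ∧ i ≠ 13 ∧ i ≠ 0 ∧ i ≠ 1 := by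
      rw [hO]; decide
    rcases h3 p hp with rfl | ⟨i, rfl, hi1, hi2, hi3⟩
    · show s * 1 = 1 * s
      rw [mul_one, one_mul]
    · exact hcon i hi1 hi2 hi3
  have h3 : s * pr e O = pr e O * s := by
    have h5 : ∀ l : List GolayPt, (∀ p ∈ l, s * e p = e p * s) → s * (l.map e).prod = (l.map e).prod * s := by
      intro l hl
      induction l with
      | nil => rw [List.map_nil, List.prod_nil, mul_one, one_mul]
      | cons a l ih =>
        rw [List.map_cons, List.prod_cons, ← mul_assoc, hl a (List.mem_cons_self), mul_assoc,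
          ih fun p hp => hl p (List.mem_cons_of_mem _ hp), mul_assoc]
    exact h5 _ fun p hp => h2 p (Finset.mem_toList.1 hp)
  have h4 : z0 = (pr e O)⁻¹ := by
    rw [← e_z]
    exact eq_inv_of_mul_eq_one_left h1.symm
  rw [h4]
  exact (show Commute s (pr e O) from h3).inv_right.eq

/-- distinct cosets -/
theorem card_cosets {G : Type*} [Group G] [Finite G] {n : ℕ} {H F : Subgroup G} (hFH : F ≤ H) (f : Fin n → G)
    (hf : ∀ i, f i ∈ H) (hne : ∀ i j, i < j → (f i)⁻¹ * f j ∉ F) : n * Nat.card F ≤ Nat.card H := by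
  have h1 : Function.Injective (fun x : Fin n × F => (⟨f x.1 * x.2, H.mul_mem (hf _) (hFH x.2.2)⟩ : H)) := by
    rintro ⟨i, x⟩ ⟨j, y⟩ h
    have h2 : f i * (x : G) = f j * y := congrArg Subtype.val h
    have h3 : (f i)⁻¹ * f j = x * (y : G)⁻¹ := by
      calc (f i)⁻¹ * f j = (f i)⁻¹ * (f j * y) * (y : G)⁻¹ := by group
        _ = (f i)⁻¹ * (f i * x) * (y : G)⁻¹ := by rw [h2]
        _ = x * (y : G)⁻¹ := by group
    have h4 : (f i)⁻¹ * f j ∈ F := by rw [h3]; exact F.mul_mem x.2 (F.inv_mem y.2)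
    have h5 : (f j)⁻¹ * f i ∈ F := by
      have := F.inv_mem h4
      rwa [mul_inv_rev, inv_inv] at this
    have hij : i = j := by
      rcases lt_trichotomy i j with hl | hl | hl
      · exact absurd h4 (hne i j hl)
      · exact hl
      · exact absurd h5 (hne j i hl)
    subst hij
    exact Prod.ext rfl (Subtype.ext (mul_left_cancel h2))
  have h2 := Nat.card_le_card_of_injective _ h1
  rwa [Nat.card_prod, Nat.card_eq_fintype_card (α := Fin n), Fintype.card_fin] at h2

/-- the pointwise stabiliser of the three points -/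
theorem card_C3 : Nat.card (stabL rho [8003, 11589, 0]) ≤ 53084160 := by
  have h0 := stabL_step_of_check (k := 15) rho [] 0 31671 9 (nw_ok w0) (nw_img w0) cfix0 cm0 clt0
  have h1 := stabL_step_of_check (k := 15) rho [0] 11589 3510 8 (nw_ok w1) (nw_img w1) dfix1 dm1 dlt1
  have h2 := stabL_step_of_check (k := 15) rho [11589, 0] 8003 693 4 (nw_ok v2) (nw_img v2) dfix2 dm2 dlt2
  have h6 : Nat.card (stabL rho []) ≤ Nat.card Fi23 :=
    Nat.card_le_card_of_injective _ Subtype.val_injective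
  rw [card_Fi23] at h6
  have h7 : 77037490530 * Nat.card (stabL rho [8003, 11589, 0]) ≤ 4089470473293004800 := by
    calc 77037490530 * Nat.card (stabL rho [8003, 11589, 0])
        = 31671 * (3510 * (693 * Nat.card (stabL rho [8003, 11589, 0]))) := by ring
      _ ≤ 31671 * (3510 * Nat.card (stabL rho [11589, 0])) := by gcongr
      _ ≤ 31671 * Nat.card (stabL rho [0]) := by gcongr
      _ ≤ Nat.card (stabL rho []) := h0
      _ ≤ 4089470473293004800 := h6
  omega

theorem e_mem_C3 (j : ZMod 23) : e (some j) ∈ stabL rho [8003, 11589, 0] := by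
  intro q hq
  have h1 : ∀ q ∈ ([8003, 11589, 0] : List ℕ), ∃ i : ZMod 23, q = lab (some i) := by decide +kernel
  obtain ⟨i, rfl⟩ := h1 q hq
  exact fix_of_comm (e_comm _ _)

theorem W3_eq : W3 = e (some 13) * e (some 0) * e (some 1) := by rw [e_z, e_a, e_c, W3]

theorem e_inv (p : GolayPt) : (e p)⁻¹ = e p := inv_eq_of_mul_eq_one_left (e_sq p)

theorem fix_or_not {s : Fi23} (hs : orderOf s = 3) (hc : s * W3 = W3 * s) :
    (rho s 0 = 0 ∧ rho s 11589 = 11589 ∧ rho s 8003 = 8003) ∨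
      ((rho s 0 = 11589 ∧ rho s 11589 = 8003 ∧ rho s 8003 = 0) ∨
        (rho s 0 = 8003 ∧ rho s 8003 = 11589 ∧ rho s 11589 = 0)) := by
  have h3 : ∀ p, rho s (rho s (rho s p)) = p := by
    intro p
    rw [← Equiv.Perm.mul_apply, ← Equiv.Perm.mul_apply, ← map_mul, ← map_mul]
    have h1 : s * s * s = 1 := by
      have := pow_orderOf_eq_one s
      rwa [hs, pow_succ, pow_two] at this
    rw [h1, map_one]
    rfl
  obtain ⟨m0, mc, ma⟩ := perm_P3 hc
  rw [mem_P3] at m0 mc ma
  have q0 := h3 0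
  have qa := h3 11589
  have qc := h3 8003
  rcases m0 with m0 | m0 | m0 <;> rcases mc with mc | mc | mc <;> rcases ma with ma | ma | ma <;>
    simp_all

/-- the cyclic case -/
theorem case_cyc {s : Fi23} (hc : s * W3 = W3 * s)
    (hcyc : (rho s 0 = 11589 ∧ rho s 11589 = 8003 ∧ rho s 8003 = 0) ∨
        (rho s 0 = 8003 ∧ rho s 8003 = 11589 ∧ rho s 11589 = 0)) :
    Nat.card (centralizer ({W3, s} : Set Fi23)) ≤ 31850496 := by
  -- the action on the three transpositions
  have l13 : lab (some 13) = 0 := by decide +kernel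
  have l0 : lab (some 0) = 11589 := by decide +kernel
  have l1 : lab (some 1) = 8003 := by decide +kernel
  have hl : ∀ l : ZMod 23, l = 13 ∨ l = 0 ∨ l = 1 → ∃ l' : ZMod 23, (l' = 13 ∨ l' = 0 ∨ l' = 1) ∧ l' ≠ l ∧
      s * e (some l) * s⁻¹ = e (some l') := by
    intro l h
    have key : ∀ l' : ZMod 23, (l' = 13 ∨ l' = 0 ∨ l' = 1) → l' ≠ l → rho s (lab (some l)) = lab (some l') →
        ∃ l' : ZMod 23, (l' = 13 ∨ l' = 0 ∨ l' = 1) ∧ l' ≠ l ∧ s * e (some l) * s⁻¹ = e (some l') :=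
      fun l' h1 h2 h3 => ⟨l', h1, h2, Cfsg.Agent.KFacts.FiTTh.BasFi.conj_e h3⟩
    rcases hcyc with ⟨h1, h2, h3⟩ | ⟨h1, h2, h3⟩ <;> rcases h with rfl | rfl | rfl
    · exact key 0 (by decide) (by decide) (by rw [l13, l0, h1])
    · exact key 1 (by decide) (by decide) (by rw [l0, l1, h2])
    · exact key 13 (by decide) (by decide) (by rw [l1, l13, h3])
    · exact key 1 (by decide) (by decide) (by rw [l13, l1, h1])
    · exact key 13 (by decide) (by decide) (by rw [l0, l13, h3])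
    · exact key 0 (by decide) (by decide) (by rw [l1, l0, h2])
  have hnc : ∀ l : ZMod 23, l = 13 ∨ l = 0 ∨ l = 1 → ¬ (s * e (some l) = e (some l) * s) := by
    intro l h h1
    obtain ⟨l', -, h2, h3⟩ := hl l h
    rw [h1, mul_inv_cancel_right] at h3
    exact h2 (Option.some.inj (Cfsg.Agent.KFacts.FiTTh.BasFi.e_inj h3)).symm
  obtain ⟨p, hp1, hp2, hp3, hp⟩ := exists_d (s := s) (by
    have := hnc 13 (Or.inl rfl)
    rwa [e_z] at this)
  set F : Subgroup Fi23 := stabL rho [8003, 11589, 0] ⊓ centralizer ({s} : Set Fi23) with hF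
  have hmem : ∀ {x : Fi23}, x ∈ F → s * x = x * s := fun {x} hx => (mem_centralizer_singleton_iff.1 hx.2).symm
  have hlp : ∀ l : ZMod 23, l = 13 ∨ l = 0 ∨ l = 1 → (e (some l))⁻¹ * e (some p) ∉ F := by
    intro l h hx
    obtain ⟨l', h1, h2, h3⟩ := hl l h
    have h4 := hmem hx
    apply not_conj (i := l') (j := l) (k := p) h2 (by rintro rfl; rcases h1 with h1 | h1 | h1 <;> contradiction)
      (by rintro rfl; rcases h with h | h | h <;> contradiction) s p
    calc s * e (some p) * s⁻¹ = (s * e (some l) * s⁻¹) * (s * ((e (some l))⁻¹ * e (some p))) * s⁻¹ := by group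
      _ = e (some l') * (((e (some l))⁻¹ * e (some p)) * s) * s⁻¹ := by rw [h3, h4]
      _ = e (some l') * (e (some l))⁻¹ * e (some p) := by group
      _ = e (some l') * e (some l) * e (some p) := by rw [e_inv]
  have hll : ∀ i j k : ZMod 23, (k = 13 ∨ k = 0 ∨ k = 1) → (e (some i))⁻¹ * e (some j) * e (some k) = W3 →
      (e (some i))⁻¹ * e (some j) ∉ F := by
    intro i j k hk hW hx
    apply hnc k hk
    have h4 := hmem hx
    have h5 : e (some k) = ((e (some i))⁻¹ * e (some j))⁻¹ * W3 := by rw [← hW]; group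
    rw [h5]
    have h6 : Commute s (((e (some i))⁻¹ * e (some j))⁻¹ * W3) :=
      ((show Commute s ((e (some i))⁻¹ * e (some j)) from h4).inv_right).mul_right (show Commute s W3 from hc)
    exact h6.eq
  have h5 : 5 * Nat.card F ≤ Nat.card (stabL rho [8003, 11589, 0]) := by
    refine card_cosets inf_le_left ![1, e (some 13), e (some 0), e (some 1), e (some p)] ?_ ?_
    · intro i
      fin_cases i
      · exact one_mem _
      · exact e_mem_C3 _
      · exact e_mem_C3 _
      · exact e_mem_C3 _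
      · exact e_mem_C3 _
    · have g1 : ∀ l : ZMod 23, l = 13 ∨ l = 0 ∨ l = 1 → (1 : Fi23)⁻¹ * e (some l) ∉ F := by
        intro l h hx
        apply hnc l h
        have := hmem hx
        rwa [inv_one, one_mul] at this
      have g2 : (1 : Fi23)⁻¹ * e (some p) ∉ F := by
        intro hx
        apply hp
        have := hmem hx
        rwa [inv_one, one_mul] at this
      have g3 : (e (some 13))⁻¹ * e (some 0) ∉ F := hll 13 0 1 (by decide) (by rw [e_inv, W3_eq])
      have g4 : (e (some 13))⁻¹ * e (some 1) ∉ F :=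
        hll 13 1 0 (by decide) (by rw [e_inv, W3_eq, mul_assoc, e_comm (some 1), ← mul_assoc])
      have g5 : (e (some 0))⁻¹ * e (some 1) ∉ F := hll 0 1 13 (by decide) (by
        rw [e_inv, W3_eq, mul_assoc, e_comm (some 1), ← mul_assoc, e_comm (some 0)])
      have g6 := hlp 13 (by decide)
      have g7 := hlp 0 (by decide)
      have g8 := hlp 1 (by decide)
      have g9 := g1 13 (by decide)
      have g10 := g1 0 (by decide)
      have g11 := g1 1 (by decide)
      intro i j hij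
      fin_cases i <;> fin_cases j
      all_goals first
        | exact absurd hij (by decide)
        | assumption
  have e0 := orb_card (centralizer ({W3, s} : Set Fi23)) 0
  have n0 : {q : ℕ | ∃ x ∈ centralizer ({W3, s} : Set Fi23), rho x 0 = q}.ncard ≤ 3 := by
    have h1 : {q : ℕ | ∃ x ∈ centralizer ({W3, s} : Set Fi23), rho x 0 = q} ⊆ P3 := by
      rintro q ⟨x, hx, rfl⟩
      exact (perm_P3 (mem_cen.1 hx).1).1
    refine (Set.ncard_le_ncard h1 (Finset.finite_toSet _)).trans ?_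
    rw [P3, Set.ncard_coe_finset]
    decide
  have hle : centralizer ({W3, s} : Set Fi23) ⊓ St 0 ≤ F := by
    rintro x ⟨hx1, hx2⟩
    obtain ⟨hx3, hx4⟩ := mem_cen.1 hx1
    have x0 : rho x 0 = 0 := hx2
    have hr : ∀ p, rho x p = p → rho x (rho s p) = rho s p := fun p h => by rw [rho_of_comm hx4.symm, h]
    have x1 := hr 0 x0
    have x2 := hr _ x1
    refine ⟨?_, mem_centralizer_singleton_iff.2 hx4⟩
    intro q hq
    simp only [List.mem_cons, List.not_mem_nil, or_false] at hq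
    rcases hcyc with ⟨h1, h2, h3⟩ | ⟨h1, h2, h3⟩
    · rw [h1] at x1 x2
      rw [h2] at x2
      rcases hq with rfl | rfl | rfl
      · exact x2
      · exact x1
      · exact x0
    · rw [h1] at x1 x2
      rw [h2] at x2
      rcases hq with rfl | rfl | rfl
      · exact x1
      · exact x2
      · exact x0
  have hcard := Nat.card_le_card_of_injective _ (Subgroup.inclusion_injective hle)
  have h6 := card_C3
  have h7 : Nat.card (centralizer ({W3, s} : Set Fi23)) ≤ Nat.card F * 3 := by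
    rw [← e0]
    exact Nat.mul_le_mul hcard n0
  omega

theorem three_W3 {N : ℕ} (hN : 31850496 ≤ N) (hA : ∀ s : Fi23, orderOf s = 3 → s * z0 = z0 * s →
      Nat.card (centralizer ({z0, s} : Set Fi23)) ≤ N) {s : Fi23} (hs : orderOf s = 3) (hc : s * W3 = W3 * s) :
    Nat.card (centralizer ({W3, s} : Set Fi23)) ≤ N := by
  rcases fix_or_not hs hc with ⟨h1, h2, h3⟩ | h
  · exact (case_fix hs h1 h2 h3).trans (hA s hs ((rho0_iff s).1 h1))
  · exact (case_cyc hc h).trans hN

/-- **`z = 2C`**: a bound for the centralizers of the elements of order 3 commuting with `z₀` bounds those of the elements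
of order 3 commuting with a conjugate of `z₀ a c`. -/
theorem two_c {N : ℕ} (hN : 31850496 ≤ N) (hA : ∀ s : Fi23, orderOf s = 3 → s * z0 = z0 * s →
      Nat.card (centralizer ({z0, s} : Set Fi23)) ≤ N) {z s : Fi23} (hz : IsConj W3 z) (hs : orderOf s = 3)
    (hc : s * z = z * s) : Nat.card (centralizer ({z, s} : Set Fi23)) ≤ N := by
  obtain ⟨u, rfl⟩ := isConj_iff.1 hz
  have hs' : orderOf (u⁻¹ * s * u) = 3 := by
    rw [← hs]
    have h1 : u⁻¹ * s * u = MulAut.conj u⁻¹ s := by rw [MulAut.conj_apply, inv_inv]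
    rw [h1]
    exact MulEquiv.orderOf_eq _ _
  have hc' : (u⁻¹ * s * u) * W3 = W3 * (u⁻¹ * s * u) := by
    calc (u⁻¹ * s * u) * W3 = u⁻¹ * (s * (u * W3 * u⁻¹)) * u := by group
      _ = u⁻¹ * ((u * W3 * u⁻¹) * s) * u := by rw [hc]
      _ = W3 * (u⁻¹ * s * u) := by group
  have h1 : Nat.card (centralizer ({u * W3 * u⁻¹, s} : Set Fi23)) ≤
      Nat.card (centralizer ({W3, u⁻¹ * s * u} : Set Fi23)) := by
    refine Nat.card_le_card_of_injective (fun x => ⟨u⁻¹ * (x : Fi23) * u, ?_⟩) ?_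
    · obtain ⟨h2, h3⟩ := mem_cen.1 x.2
      refine mem_cen.2 ⟨?_, ?_⟩
      · calc u⁻¹ * (x : Fi23) * u * W3 = u⁻¹ * ((x : Fi23) * (u * W3 * u⁻¹)) * u := by group
          _ = u⁻¹ * ((u * W3 * u⁻¹) * (x : Fi23)) * u := by rw [h2]
          _ = W3 * (u⁻¹ * (x : Fi23) * u) := by group
      · calc u⁻¹ * (x : Fi23) * u * (u⁻¹ * s * u) = u⁻¹ * ((x : Fi23) * s) * u := by group
          _ = u⁻¹ * (s * (x : Fi23)) * u := by rw [h3]
          _ = u⁻¹ * s * u * (u⁻¹ * (x : Fi23) * u) := by group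
    · intro x y hxy
      have h2 := congrArg Subtype.val hxy
      exact Subtype.ext (mul_left_cancel (mul_right_cancel h2))
  exact h1.trans (three_W3 hN hA hs' hc')

end Cfsg.Agent.H692.Ore.Fi23C
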