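import Cfsg.Agent.H348.Pw.HS
import Cfsg.Agent.HN.H0Basic

/-!
# ORE (S2443), row `HN`, piece (E): the centralizers in `H0 = 2.HS:2` of the elements of order 3 and 5 (helper692)

From helper922's class cover of `HS` (degree 100) with the bounds for the centralizers in `HS:2`: all classes except those
of elements of order at most 4 have centralizers of order at most `5124` in `HS:2`.
-/

set_option autoImplicit false

namespace Cfsg.Agent.H692.Ore.HNE

open Equiv Cfsg.Agent.HN.HS100 Cfsg.Agent.HN.Pres Cfsg.Agent.SporadicA.PermTab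
open Cfsg.Agent.HN.H0Basic
open Cfsg Cfsg.Agent.H922.Ore.Gr Cfsg.Agent.H922.Ore.HS Cfsg.Agent.H348.Pw.Gr

theorem small : ∀ i, bnd (D i).L ≤ 5124 ∨ eqv 100 (powL [(D i).X] 4) [] = true := by
  intro i
  fin_cases i <;> decide +kernel

/-- the centralizer in `HS:2` of an element conjugate to a representative -/
theorem card_cent_le {i : Fin 21} {x c : Perm (Fin 100)} (hx : Acts x [(D i).X]) (hc : c ∈ φ.range) :
    Nat.card (Subgroup.centralizer ({c * x * c⁻¹} : Set (Perm (Fin 100))) ⊓ φ.range : Subgroup (Perm (Fin 100))) ≤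
      bnd (D i).L := by
  have h := chk_all i
  simp only [Cls.chk, Bool.and_eq_true] at h
  have h1 : Nat.card (Subgroup.centralizer ({x} : Set (Perm (Fin 100))) ⊓ φ.range : Subgroup (Perm (Fin 100))) ≤
      bnd (D i).L := by
    refine card_le_of_chC hx (D i).m (D i).k (D i).L _ [] (inf_le_right.trans range_le) ?_ ?_ h.2.1
    · intro c hc j
      have hc' := Subgroup.mem_centralizer_singleton_iff.1 hc.1
      have h1 := congrArg (fun z : Perm (Fin 100) => z j) hc'
      exact h1
    · intro c _ f hf
      exact absurd hf List.not_mem_nil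
  refine le_trans ?_ h1
  refine Nat.card_le_card_of_injective (fun y => ⟨c⁻¹ * (y : Perm (Fin 100)) * c, Subgroup.mem_inf.2 ⟨?_, ?_⟩⟩) ?_
  · rw [Subgroup.mem_centralizer_singleton_iff]
    have h2 := Subgroup.mem_centralizer_singleton_iff.1 y.2.1
    calc c⁻¹ * (y : Perm (Fin 100)) * c * x = c⁻¹ * ((y : Perm (Fin 100)) * (c * x * c⁻¹)) * c := by group
      _ = c⁻¹ * ((c * x * c⁻¹) * (y : Perm (Fin 100))) * c := by rw [h2]
      _ = x * (c⁻¹ * (y : Perm (Fin 100)) * c) := by group
  · exact mul_mem (mul_mem (inv_mem hc) y.2.2) hc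
  · intro y z hyz
    have h2 := congrArg Subtype.val hyz
    exact Subtype.ext (mul_left_cancel (mul_right_cancel h2))

/-- **(E)**: the centralizers in `H0` of the elements of order 3 and 5 -/
theorem cent_le {s : H0} (hs : orderOf s = 3 ∨ orderOf s = 5) :
    Nat.card (Subgroup.centralizer ({s} : Set H0)) ≤ 10248 := by
  classical
  have hfin : Finite H0 := Nat.finite_of_card_ne_zero (by rw [card_H0_le.antisymm card_H0.ge]; norm_num)
  have hn : ∃ n, Odd n ∧ s ^ n = 1 ∧ (∀ t : H0, t = 1 ∨ t = τ → s ≠ t) := by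
    refine ⟨orderOf s, ?_, pow_orderOf_eq_one s, ?_⟩
    · rcases hs with h | h <;> rw [h] <;> decide
    · rintro t (rfl | rfl) rfl
      · rw [orderOf_one] at hs
        omega
      · have h1 : orderOf τ ∣ 2 := orderOf_dvd_of_pow_eq_one τ_sq
        rcases hs with h | h <;> rw [h] at h1 <;> omega
  obtain ⟨n, hodd, hpow, hne⟩ := hn
  have hQ : φ s ∈ Q := by
    rw [mem_Q_iff ⟨s, rfl⟩]
    have h1 : (Perm.sign (φ s)) ^ n = 1 := by rw [← map_pow, ← map_pow, hpow, map_one, map_one]
    rcases Int.units_eq_one_or (Perm.sign (φ s)) with h | h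
    · exact h
    · rw [h, hodd.neg_one_pow] at h1
      exact absurd h1 (by decide)
  obtain ⟨i, x, -, hx, c, hc, he⟩ := Cfsg.Agent.H348.Pw.HS.cov_Q _ hQ
  have h1 := card_cent_le hx hc
  rw [← he] at h1
  have h2 : bnd (D i).L ≤ 5124 := by
    rcases small i with h | h
    · exact h
    · exfalso
      have h4 : x ^ 4 = 1 := Acts.eq (acts_pow hx 4) Acts.one h
      have h5 : (φ s) ^ 4 = 1 := by rw [he, conj_pow, h4, mul_one, mul_inv_cancel]
      have h6 : orderOf (φ s) ∣ 4 := orderOf_dvd_of_pow_eq_one h5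
      have h7 : orderOf (φ s) ∣ orderOf s := orderOf_map_dvd φ s
      have h8 : orderOf (φ s) = 1 := by
        apply Nat.eq_one_of_dvd_coprimes _ h6 h7
        rcases hs with h | h <;> rw [h] <;> decide
      rw [orderOf_eq_one_iff, φ_eq_one_iff] at h8
      exact hne s h8 rfl
  -- the kernel of the map has order two
  let C := Subgroup.centralizer ({s} : Set H0)
  have h9 : Nat.card C ≤ 2 * Nat.card (C.map φ) := by
    have h10 := Subgroup.card_mul_index ((φ.comp C.subtype).ker)
    rw [Subgroup.index_ker] at h10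
    have h11 : (φ.comp C.subtype).range = C.map φ := by
      rw [MonoidHom.range_comp, Subgroup.range_subtype]
    rw [h11] at h10
    have h12 : Nat.card (φ.comp C.subtype).ker ≤ 2 := by
      have h13 : Nat.card (φ.comp C.subtype).ker ≤ Nat.card (({1, τ} : Finset H0) : Set H0) := by
        refine Nat.card_le_card_of_injective (fun y => ⟨((y : C) : H0), ?_⟩) ?_
        · have h14 : φ ((y : C) : H0) = 1 := y.2
          rw [φ_eq_one_iff] at h14
          simpa using h14
        · intro y z hyz
          have h2 := congrArg Subtype.val hyz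
          exact Subtype.ext (Subtype.ext h2)
      refine h13.trans ?_
      rw [Nat.card_coe_set_eq, Set.ncard_coe_finset]
      exact Finset.card_le_two
    calc Nat.card C = Nat.card (φ.comp C.subtype).ker * Nat.card (C.map φ) := h10.symm
      _ ≤ 2 * Nat.card (C.map φ) := Nat.mul_le_mul_right _ h12
  have h15 : C.map φ ≤ Subgroup.centralizer ({φ s} : Set (Perm (Fin 100))) ⊓ φ.range := by
    rintro _ ⟨y, hy, rfl⟩
    refine Subgroup.mem_inf.2 ⟨?_, ⟨y, rfl⟩⟩
    rw [Subgroup.mem_centralizer_singleton_iff, ← map_mul, ← map_mul,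
      Subgroup.mem_centralizer_singleton_iff.1 hy]
  have h16 := Nat.card_le_card_of_injective _ (Subgroup.inclusion_injective h15)
  show Nat.card C ≤ 10248
  omega

end Cfsg.Agent.H692.Ore.HNE
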