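import Cfsg.Agent.KFacts.FiTTh.BasFi
import Cfsg.Agent.KFacts.FiTTh.Cent
import Cfsg.Agent.H870.Fi23Fix

/-!
# `Fi₂₃`, `z = 2B`: the elements of order 3 commuting with a product of two commuting transpositions (helper692, S2443)

The number of the transpositions commuting with `z₀` but not with `a` is `2816 = 2` modulo `3`. So an element `s` of order
`3` commuting with `z₀` and `a` commutes with a transposition that commutes with `z₀` but not with `a`, and
`|C(z₀ a) ∩ C(s)| ≤ |C(z₀) ∩ C(s)|`.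
-/

set_option autoImplicit false
set_option maxRecDepth 100000
set_option linter.constructorNameAsVariable false

namespace Cfsg.Agent.H692.Ore.Fi23B

open Subgroup
open Cfsg.Agent.Lib.PermNet Cfsg.Agent.Lib.PermNetFix Cfsg.Agent.Lib.PermNetOrbit
open Cfsg.Agent.Fischer.Fi23Z Cfsg.Agent.Fischer.Fi23Hom
open Cfsg.Agent.Fischer Cfsg.Agent.Fischer.Fi23Class Cfsg.Agent.Fischer.Fi23Simple
open Cfsg.Agent.KFacts.FiTTh.Cent
open Cfsg.Agent.LThreeFi23 (Lt el elw elw_cons elw_nil act_lt)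
open Cfsg.Agent.H870.Fi23Fix (Fx Fx_word fxm)
open Cfsg.Spor Cfsg.Spor.Fi23

theorem Fx_z0 : Fx z0 = 3511 := by
  have h : elw [.z] = z0 := by
    rw [elw_cons, elw_nil, mul_one]
    rfl
  rw [← h, Fx_word]
  exact Nat.eq_of_beq_eq_true (by decide +kernel)

theorem Fx_W2 : Fx W2 = 695 := by
  have h : elw [.z, .a] = W2 := by
    rw [elw_cons, elw_cons, elw_nil, mul_one]
    rfl
  rw [← h, Fx_word]
  exact Nat.eq_of_beq_eq_true (by decide +kernel)

/-- the points of the transpositions commuting with `z0` but not with `a` -/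
def NN : Set ℕ := {p | p < 31671 ∧ rho z0 p = p ∧ rho (gen .a) p ≠ p}

theorem ncard_NN : NN.ncard = 2816 := by
  have h1 : {p : ℕ | p < 31671 ∧ rho W2 p = p} ⊆ {p : ℕ | p < 31671 ∧ rho z0 p = p} := by
    rintro p ⟨hp, h⟩
    exact ⟨hp, hW2 p hp h z0 (Or.inl rfl)⟩
  have h2 : NN = {p : ℕ | p < 31671 ∧ rho z0 p = p} \ {p : ℕ | p < 31671 ∧ rho W2 p = p} := by
    ext p
    constructor
    · rintro ⟨hp, h, h'⟩
      exact ⟨⟨hp, h⟩, fun h3 => h' (hW2 p hp h3.2 _ (Or.inr rfl))⟩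
    · rintro ⟨⟨hp, h⟩, h'⟩
      refine ⟨hp, h, fun h3 => h' ⟨hp, ?_⟩⟩
      have h4 : rho W2 p = rho z0 (rho (gen .a) p) := by
        rw [W2, map_mul, Equiv.Perm.mul_apply]
      rw [h4, h3, h]
  have hfin : {p : ℕ | p < 31671 ∧ rho z0 p = p}.Finite := (Set.finite_lt_nat 31671).subset fun p hp => hp.1
  rw [h2, Set.ncard_sdiff h1 (hfin.subset h1)]
  have h3 : {p : ℕ | p < 31671 ∧ rho z0 p = p}.ncard = 3511 := Fx_z0
  have h4 : {p : ℕ | p < 31671 ∧ rho W2 p = p}.ncard = 695 := Fx_W2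
  rw [h3, h4]

/-- a further transposition commuting with `s` and `z0` -/
theorem exists_e {s : Fi23} (hs : orderOf s = 3) (hz : s * z0 = z0 * s) (ha : s * gen .a = gen .a * s) :
    ∃ g : Fi23, (g * z0 * g⁻¹) * s = s * (g * z0 * g⁻¹) ∧ (g * z0 * g⁻¹) * z0 = z0 * (g * z0 * g⁻¹) ∧
      rho (g * z0 * g⁻¹) 11589 ≠ 11589 := by
  classical
  have hfin : NN.Finite := (Set.finite_lt_nat 31671).subset fun p hp => hp.1
  have hF : Fintype NN := hfin.fintype
  have p3 : Fact (Nat.Prime 3) := ⟨Nat.prime_three⟩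
  have hmem : ∀ t : Fi23, t * z0 = z0 * t → t * gen .a = gen .a * t → ∀ p ∈ NN, rho t p ∈ NN := by
    rintro t h1 h2 p ⟨hp, h3, h4⟩
    refine ⟨act_lt t hp, ?_, ?_⟩
    · rw [← Equiv.Perm.mul_apply, ← map_mul, ← h1, map_mul, Equiv.Perm.mul_apply, h3]
    · intro h5
      apply h4
      apply (rho t).injective
      rw [← Equiv.Perm.mul_apply, ← map_mul, h2, map_mul, Equiv.Perm.mul_apply, h5]
  have hinv : ∀ {c : Fi23}, s * c = c * s → s⁻¹ * c = c * s⁻¹ := fun {c} h => by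
    calc s⁻¹ * c = s⁻¹ * (c * s) * s⁻¹ := by group
      _ = c * s⁻¹ := by rw [← h]; group
  let σ : Equiv.Perm NN :=
    { toFun := fun p => ⟨rho s p, hmem s hz ha p p.2⟩
      invFun := fun p => ⟨rho s⁻¹ p, hmem s⁻¹ (hinv hz) (hinv ha) p p.2⟩
      left_inv := fun p => Subtype.ext (by
        show rho s⁻¹ (rho s p) = p
        rw [← Equiv.Perm.mul_apply, ← map_mul, inv_mul_cancel, map_one]; rfl)
      right_inv := fun p => Subtype.ext (by
        show rho s (rho s⁻¹ p) = p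
        rw [← Equiv.Perm.mul_apply, ← map_mul, mul_inv_cancel, map_one]; rfl) }
  have hσ : σ ^ 3 ^ 1 = 1 := by
    ext p
    show rho s (rho s (rho s p)) = p
    rw [← Equiv.Perm.mul_apply, ← Equiv.Perm.mul_apply, ← map_mul, ← map_mul]
    have h1 : s * s * s = 1 := by
      have := pow_orderOf_eq_one s
      rwa [hs, pow_succ, pow_two] at this
    rw [h1, map_one]
    rfl
  obtain ⟨⟨p, hp⟩, h⟩ := Equiv.Perm.exists_fixed_point_of_prime (p := 3) (n := 1) (by
    rw [← Nat.card_eq_fintype_card, Nat.card_coe_set_eq, ncard_NN]; norm_num) hσ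
  have hps : rho s p = p := congrArg Subtype.val h
  obtain ⟨hp1, hp2, hp3⟩ := hp
  obtain ⟨g, hg⟩ : ∃ g : Fi23, rho g 0 = p := Cfsg.Agent.LThreeFi23.exists_rep hp1
  rw [← hg] at hps hp2 hp3
  rw [fixes_iff] at hps hp2
  refine ⟨g, hps.symm, hp2.symm, fun h4 => hp3 ?_⟩
  obtain ⟨b, hb, hb'⟩ := exists_a
  rw [← hb', fixes_iff, hb] at h4
  rw [fixes_iff]
  exact h4.symm

/-- the stabiliser of a point -/
noncomputable def St (p : ℕ) : Subgroup Fi23 := (MulAction.stabilizer (Equiv.Perm ℕ) p).comap rho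

theorem mem_St {p : ℕ} {g : Fi23} : g ∈ St p ↔ rho g p = p := Iff.rfl

/-- the orbit of a point under a subgroup -/
theorem orb_card (S : Subgroup Fi23) (p : ℕ) :
    Nat.card (S ⊓ St p : Subgroup Fi23) * {q : ℕ | ∃ x ∈ S, rho x p = q}.ncard = Nat.card S := by
  let _ : MulAction S ℕ := MulAction.compHom ℕ (rho.comp S.subtype)
  have ho : MulAction.orbit S p = {q : ℕ | ∃ x ∈ S, rho x p = q} := by
    ext q
    constructor
    · rintro ⟨y, rfl⟩
      exact ⟨y, y.2, rfl⟩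
    · rintro ⟨y, hy, rfl⟩
      exact ⟨⟨y, hy⟩, rfl⟩
  have hst : (S ⊓ St p).subgroupOf S = MulAction.stabilizer S p := by
    ext x
    rw [mem_subgroupOf, MulAction.mem_stabilizer_iff, mem_inf]
    exact ⟨fun h => h.2, fun h => ⟨x.2, h⟩⟩
  have h1 := Subgroup.card_mul_index (MulAction.stabilizer S p)
  rw [MulAction.index_stabilizer, ho, ← hst] at h1
  have h2 : Nat.card ((S ⊓ St p).subgroupOf S) = Nat.card (S ⊓ St p : Subgroup Fi23) :=
    Nat.card_congr (Subgroup.subgroupOfEquivOfLe inf_le_left).toEquiv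
  rw [h2] at h1
  exact h1

theorem mem_cen {a b x : Fi23} : x ∈ centralizer ({a, b} : Set Fi23) ↔ x * a = a * x ∧ x * b = b * x := by
  rw [mem_centralizer_iff]
  constructor
  · intro h
    exact ⟨(h a (Or.inl rfl)).symm, (h b (Or.inr rfl)).symm⟩
  · rintro ⟨h1, h2⟩ y (rfl | rfl)
    · exact h1.symm
    · exact h2.symm

/-- an element commuting with `z0 a` fixes or swaps the two points -/
theorem swap_or {y : Fi23} (hy : y * W2 = W2 * y) :
    (rho y 0 = 0 ∧ rho y 11589 = 11589) ∨ (rho y 0 = 11589 ∧ rho y 11589 = 0) := by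
  obtain ⟨h, hh, hp⟩ := exists_a
  have f := fun (h : Fi23) (hd : h * z0 * h⁻¹ ∈ Ds2) =>
    stable (P := (({0, 11589} : Finset ℕ) : Set ℕ)) hW2 hP2 hX2 hWX2 hWD2 hy hd
  have h1 : rho y 0 ∈ (({0, 11589} : Finset ℕ) : Set ℕ) := by
    have := f 1 (by rw [one_mul, inv_one, mul_one]; exact Or.inl rfl)
    simpa using this
  have h2 : rho y 11589 ∈ (({0, 11589} : Finset ℕ) : Set ℕ) := by
    have := f h (by rw [hh]; exact Or.inr rfl)
    rwa [hp] at this
  simp only [Finset.coe_insert, Finset.coe_singleton, Set.mem_insert_iff, Set.mem_singleton_iff] at h1 h2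
  have h3 : rho y 0 ≠ rho y 11589 := fun h => absurd ((rho y).injective h) (by decide)
  rcases h1 with h1 | h1 <;> rcases h2 with h2 | h2
  · exact absurd (h1.trans h2.symm) h3
  · exact Or.inl ⟨h1, h2⟩
  · exact Or.inr ⟨h1, h2⟩
  · exact absurd (h1.trans h2.symm) h3

theorem fix_of_three {s : Fi23} (hs : orderOf s = 3) (hy : s * W2 = W2 * s) : rho s 0 = 0 ∧ rho s 11589 = 11589 := by
  rcases swap_or hy with h | ⟨h1, h2⟩
  · exact h
  · exfalso
    have h3 : rho (s * (s * s)) 0 = 11589 := by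
      rw [map_mul, map_mul, Equiv.Perm.mul_apply, Equiv.Perm.mul_apply, h1, h2, h1]
    have h4 : s * (s * s) = 1 := by
      have := pow_orderOf_eq_one s
      rwa [hs, pow_succ', pow_two] at this
    rw [h4, map_one] at h3
    exact absurd h3 (by decide)

theorem fixA_iff {y : Fi23} : rho y 11589 = 11589 ↔ y * gen .a = gen .a * y := by
  obtain ⟨b, hb, hb'⟩ := exists_a
  rw [← hb', fixes_iff, hb]

theorem two_W2 {s : Fi23} (hs : orderOf s = 3) (hc : s * W2 = W2 * s) :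
    Nat.card (centralizer ({W2, s} : Set Fi23)) ≤ Nat.card (centralizer ({z0, s} : Set Fi23)) := by
  obtain ⟨f0, fa⟩ := fix_of_three hs hc
  have c0 := (rho0_iff s).1 f0
  have ca := fixA_iff.1 fa
  set A : Subgroup Fi23 := centralizer ({z0, s} : Set Fi23) ⊓ St 11589 with hA
  set A' : Subgroup Fi23 := centralizer ({W2, s} : Set Fi23) ⊓ St 0 with hA'
  have hle : A' ≤ A := by
    rintro x ⟨hx1, hx2⟩
    have hx3 : rho x 0 = 0 := hx2
    obtain ⟨hx4, hx5⟩ := mem_cen.1 hx1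
    rcases swap_or hx4 with h | ⟨h, -⟩
    · exact ⟨mem_cen.2 ⟨(rho0_iff x).1 hx3, hx5⟩, h.2⟩
    · exact absurd (hx3.symm.trans h) (by decide)
  have hfin : Finite Fi23 := Nat.finite_of_card_ne_zero (by rw [card_Fi23]; norm_num)
  have hcard : Nat.card A' ≤ Nat.card A := Nat.card_le_card_of_injective _ (Subgroup.inclusion_injective hle)
  have e1 := orb_card (centralizer ({W2, s} : Set Fi23)) 0
  have e2 := orb_card (centralizer ({z0, s} : Set Fi23)) 11589
  rw [← hA'] at e1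
  rw [← hA] at e2
  have n1 : {q : ℕ | ∃ x ∈ centralizer ({W2, s} : Set Fi23), rho x 0 = q}.ncard ≤ 2 := by
    have h1 : {q : ℕ | ∃ x ∈ centralizer ({W2, s} : Set Fi23), rho x 0 = q} ⊆ ({0, 11589} : Set ℕ) := by
      rintro q ⟨x, hx, rfl⟩
      rcases swap_or (mem_cen.1 hx).1 with h | h
      · exact Or.inl h.1
      · exact Or.inr h.1
    refine (Set.ncard_le_ncard h1 (by simp)).trans ?_
    rw [Set.ncard_pair (by decide)]
  have n2 : 2 ≤ {q : ℕ | ∃ x ∈ centralizer ({z0, s} : Set Fi23), rho x 11589 = q}.ncard := by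
    obtain ⟨g, hg1, hg2, hg3⟩ := exists_e hs c0 ca
    have h1 : ({11589, rho (g * z0 * g⁻¹) 11589} : Set ℕ) ⊆
        {q : ℕ | ∃ x ∈ centralizer ({z0, s} : Set Fi23), rho x 11589 = q} := by
      rintro q (rfl | rfl)
      · exact ⟨1, one_mem _, by rw [map_one]; rfl⟩
      · exact ⟨g * z0 * g⁻¹, mem_cen.2 ⟨hg2, hg1⟩, rfl⟩
    rw [← Set.ncard_pair (Ne.symm hg3)]
    refine Set.ncard_le_ncard h1 ?_
    have : (Set.range fun x : centralizer ({z0, s} : Set Fi23) => rho (x : Fi23) 11589).Finite := Set.finite_range _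
    refine this.subset ?_
    rintro q ⟨x, hx, rfl⟩
    exact ⟨⟨x, hx⟩, rfl⟩
  calc Nat.card (centralizer ({W2, s} : Set Fi23)) ≤ Nat.card A' * 2 := by
        rw [← e1]; exact Nat.mul_le_mul_left _ n1
    _ ≤ Nat.card A * 2 := Nat.mul_le_mul_right _ hcard
    _ ≤ Nat.card (centralizer ({z0, s} : Set Fi23)) := by
        rw [← e2]; exact Nat.mul_le_mul_left _ n2

/-- **`z = 2B`**: for a conjugate `z` of `z₀ a`, a bound for the centralizers of the elements of order 3 commuting with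
`z₀` bounds those of the elements of order 3 commuting with `z`. -/
theorem two_b {N : ℕ} (hA : ∀ s : Fi23, orderOf s = 3 → s * z0 = z0 * s →
      Nat.card (centralizer ({z0, s} : Set Fi23)) ≤ N)
    {z s : Fi23} (hz : IsConj W2 z) (hs : orderOf s = 3) (hc : s * z = z * s) :
    Nat.card (centralizer ({z, s} : Set Fi23)) ≤ N := by
  have hfin : Finite Fi23 := Nat.finite_of_card_ne_zero (by rw [card_Fi23]; norm_num)
  obtain ⟨u, rfl⟩ := isConj_iff.1 hz
  have hs' : orderOf (u⁻¹ * s * u) = 3 := by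
    rw [← hs]
    have h1 : u⁻¹ * s * u = MulAut.conj u⁻¹ s := by rw [MulAut.conj_apply, inv_inv]
    rw [h1]
    exact MulEquiv.orderOf_eq _ _
  have hc' : (u⁻¹ * s * u) * W2 = W2 * (u⁻¹ * s * u) := by
    calc (u⁻¹ * s * u) * W2 = u⁻¹ * (s * (u * W2 * u⁻¹)) * u := by group
      _ = u⁻¹ * ((u * W2 * u⁻¹) * s) * u := by rw [hc]
      _ = W2 * (u⁻¹ * s * u) := by group
  have h1 : Nat.card (centralizer ({u * W2 * u⁻¹, s} : Set Fi23)) ≤
      Nat.card (centralizer ({W2, u⁻¹ * s * u} : Set Fi23)) := by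
    refine Nat.card_le_card_of_injective (fun x => ⟨u⁻¹ * (x : Fi23) * u, ?_⟩) ?_
    · obtain ⟨h2, h3⟩ := mem_cen.1 x.2
      refine mem_cen.2 ⟨?_, ?_⟩
      · calc u⁻¹ * (x : Fi23) * u * W2 = u⁻¹ * ((x : Fi23) * (u * W2 * u⁻¹)) * u := by group
          _ = u⁻¹ * ((u * W2 * u⁻¹) * (x : Fi23)) * u := by rw [h2]
          _ = W2 * (u⁻¹ * (x : Fi23) * u) := by group
      · calc u⁻¹ * (x : Fi23) * u * (u⁻¹ * s * u) = u⁻¹ * ((x : Fi23) * s) * u := by group
          _ = u⁻¹ * (s * (x : Fi23)) * u := by rw [h3]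
          _ = u⁻¹ * s * u * (u⁻¹ * (x : Fi23) * u) := by group
    · intro x y hxy
      have h2 := congrArg Subtype.val hxy
      exact Subtype.ext (mul_left_cancel (mul_right_cancel h2))
  have h2 := two_W2 hs' hc'
  obtain ⟨f0, -⟩ := fix_of_three hs' hc'
  exact h1.trans (h2.trans (hA _ hs' ((rho0_iff _).1 f0)))

/-- the products of two of the 23 commuting transpositions are conjugate to `z₀ a` -/
theorem isConj_W2 {i j : ZMod 23} (h : i ≠ j) :
    IsConj W2 (KFacts.FiTTh.BasFi.e (some i) * KFacts.FiTTh.BasFi.e (some j)) := by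
  obtain ⟨n, h1, h2⟩ := KFacts.FiTTh.BasFi.exists_pair (i := 13) (j := 0) (i' := i) (j' := j) (by decide) h
  rw [KFacts.FiTTh.BasFi.e_z] at h1
  rw [KFacts.FiTTh.BasFi.e_a] at h2
  refine isConj_iff.2 ⟨n, ?_⟩
  rw [← h1, ← h2, W2]
  group

end Cfsg.Agent.H692.Ore.Fi23B
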